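import Mathlib
import Cfsg.Prelude.Def_Local
import Cfsg.Agent.Lib.PSolvable.HallHigman

/-!
# When does a Sylow p-subgroup normalize a Sylow q-subgroup
-/

set_option autoImplicit false
set_option linter.style.haveILetI false

namespace Cfsg.Agent.Lib.NormalizesSylow

open scoped Pointwise
open Cfsg.Agent.Lib.PSolvable

variable {G : Type*} [Group G] [Finite G] {p q : ℕ} [Fact p.Prime] [Fact q.Prime]

/-- Some Sylow `p`-subgroup normalizes `H` iff the normalizer has index prime to `p`. -/
theorem exists_le_of_not_dvd_index (H : Subgroup G) (h : ¬ p ∣ H.index) :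
    ∃ P : Sylow p G, (P : Subgroup G) ≤ H := by
  obtain ⟨S⟩ : Nonempty (Sylow p H) := inferInstance
  refine ⟨(S.2.map H.subtype).toSylow ?_, Subgroup.map_subtype_le _⟩
  rw [Subgroup.index_map_subtype]
  exact (Fact.out : p.Prime).not_dvd_mul S.not_dvd_index h

omit [Fact q.Prime] in
theorem not_dvd_index_of_le {H : Subgroup G} (P : Sylow p G) (h : (P : Subgroup G) ≤ H) :
    ¬ p ∣ H.index := fun hd => P.not_dvd_index (hd.trans (Subgroup.index_dvd_of_le h))

theorem exists_normalizes_iff :
    (∃ (P : Sylow p G) (Q : Sylow q G),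
        (P : Subgroup G) ≤ Subgroup.normalizer ((Q : Subgroup G) : Set G)) ↔
      ∃ Q : Sylow q G, ¬ p ∣ (Subgroup.normalizer ((Q : Subgroup G) : Set G)).index := by
  constructor
  · rintro ⟨P, Q, h⟩
    exact ⟨Q, not_dvd_index_of_le P h⟩
  · rintro ⟨Q, h⟩
    obtain ⟨P, hP⟩ := exists_le_of_not_dvd_index (p := p) _ h
    exact ⟨P, Q, hP⟩

omit [Fact p.Prime] in
theorem index_normalizer_sylow_eq (Q Q' : Sylow q G) :
    (Subgroup.normalizer ((Q : Subgroup G) : Set G)).index =
      (Subgroup.normalizer ((Q' : Subgroup G) : Set G)).index := by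
  exact (Sylow.card_eq_index_normalizer Q).symm.trans (Sylow.card_eq_index_normalizer Q')

/-- every q-element lying in a normal subgroup containing one Sylow q-subgroup -/
theorem sylow_le_iff_not_dvd_index (K : Subgroup G) [K.Normal] (Q : Sylow q G) :
    (Q : Subgroup G) ≤ K ↔ ¬ q ∣ K.index := by
  refine ⟨not_dvd_index_of_le Q, fun h => ?_⟩
  obtain ⟨Q', hQ'⟩ := exists_le_of_not_dvd_index (p := q) K h
  obtain ⟨g, rfl⟩ := MulAction.exists_smul_eq G Q' Q
  rw [Sylow.coe_subgroup_smul, Subgroup.pointwise_smul_def]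
  refine (Subgroup.map_mono hQ').trans ?_
  exact (Subgroup.normal_iff_map_conj_eq.mp inferInstance g).le

/-! ### The p-solvable criterion -/

theorem sylow_eq_bot_of_normalizes (hpq : p ≠ q) (h : Cfsg.IsPSolvable p G)
    (h1 : Cfsg.pPrimeCore p G = ⊥) (P : Sylow p G) (Q : Sylow q G)
    (hPQ : (P : Subgroup G) ≤ Subgroup.normalizer ((Q : Subgroup G) : Set G)) :
    (Q : Subgroup G) = ⊥ := by
  have hOP : Cfsg.pCore p G ≤ (P : Subgroup G) := (isPGroup_pCore).le_sylow_of_normal P
  have hdisj : Disjoint (Cfsg.pCore p G) (Q : Subgroup G) :=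
    IsPGroup.disjoint_of_ne p q hpq _ _ isPGroup_pCore Q.2
  have hc : (Q : Subgroup G) ≤ Subgroup.centralizer ((Cfsg.pCore p G : Subgroup G) : Set G) := by
    intro x hx o ho
    have h2 : o * x * o⁻¹ * x⁻¹ = 1 := by
      apply Subgroup.mem_bot.mp
      rw [← hdisj.eq_bot]
      refine ⟨?_, ?_⟩
      · have : o * (x * o⁻¹ * x⁻¹) ∈ Cfsg.pCore p G :=
          mul_mem ho ((inferInstance : (Cfsg.pCore p G).Normal).conj_mem _ (inv_mem ho) x)
        simpa [mul_assoc] using this
      · exact mul_mem ((Subgroup.mem_normalizer_iff.mp (hPQ (hOP ho)) x).mp hx)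
          ((Q : Subgroup G).inv_mem hx)
    rwa [mul_inv_eq_one, mul_inv_eq_iff_eq_mul] at h2
  have : (Q : Subgroup G) ≤ Cfsg.pCore p G := hc.trans (centralizer_pCore_le h h1)
  exact disjoint_self.mp (hdisj.mono_left this) ▸ rfl

theorem normalizes_of_not_dvd_index (hpq : p ≠ q) (K : Subgroup G) [K.Normal]
    (hK : ¬ p ∣ Nat.card K) (hq : ¬ q ∣ K.index) :
    ∃ (P : Sylow p G) (Q : Sylow q G),
      (P : Subgroup G) ≤ Subgroup.normalizer ((Q : Subgroup G) : Set G) := by
  obtain ⟨Q⟩ : Nonempty (Sylow q G) := inferInstance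
  refine exists_normalizes_iff.mpr ⟨Q, fun hd => hK ?_⟩
  have hQK : (Q : Subgroup G) ≤ K := (sylow_le_iff_not_dvd_index K Q).mpr hq
  have htop : Subgroup.normalizer ((Q : Subgroup G) : Set G) ⊔ K = ⊤ :=
    Sylow.normalizer_sup_eq_top' Q hQK
  have h2 : (Subgroup.normalizer ((Q : Subgroup G) : Set G)).index ∣ Nat.card K := by
    have hk : Nat.card K ≠ 0 := Nat.card_pos.ne'
    have hcard := card_sup_dvd_mul (Subgroup.normalizer ((Q : Subgroup G) : Set G)) K
    rw [htop, Subgroup.card_top, ← Subgroup.card_mul_index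
      (Subgroup.normalizer ((Q : Subgroup G) : Set G))] at hcard
    exact (Nat.mul_dvd_mul_iff_left Nat.card_pos).mp hcard
  exact hd.trans h2

theorem not_dvd_index_of_normalizes (hpq : p ≠ q) (h : Cfsg.IsPSolvable p G)
    (P : Sylow p G) (Q : Sylow q G)
    (hPQ : (P : Subgroup G) ≤ Subgroup.normalizer ((Q : Subgroup G) : Set G)) :
    ¬ q ∣ (Cfsg.pPrimeCore p G).index := by
  set π := QuotientGroup.mk' (Cfsg.pPrimeCore p G) with hπ
  have hs := QuotientGroup.mk'_surjective (Cfsg.pPrimeCore p G)
  have hb := sylow_eq_bot_of_normalizes hpq (isPSolvable_quotient h _)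
    (pPrimeCore_quotient_eq_bot _ rfl)
    (P.mapSurjective hs) (Q.mapSurjective hs)
    ((Subgroup.map_mono hPQ).trans (Subgroup.le_normalizer_map π))
  rw [← sylow_le_iff_not_dvd_index _ Q]
  rw [Sylow.coe_mapSurjective, Subgroup.map_eq_bot_iff, QuotientGroup.ker_mk'] at hb
  exact hb

/-! ### The class size hypothesis -/

/-- No `q`-element has class size divisible by `p`. -/
def NoClassDvd (p q : ℕ) (G : Type*) [Group G] : Prop :=
  ∀ y : G, (∃ k : ℕ, orderOf y = q ^ k) → ¬ p ∣ (Subgroup.centralizer ({y} : Set G)).index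

omit [Fact p.Prime] in
theorem exists_orderOf_eq_pow {H : Subgroup G} (hH : IsPGroup q H) {y : G} (hy : y ∈ H) :
    ∃ k : ℕ, orderOf y = q ^ k := by
  obtain ⟨k, hk⟩ := IsPGroup.iff_orderOf.mp hH ⟨y, hy⟩
  exact ⟨k, by rw [← hk, ← Subgroup.orderOf_coe]⟩

omit [Fact p.Prime] in
theorem noClassDvd_quotient (h : NoClassDvd p q G) (N : Subgroup G) [N.Normal] :
    NoClassDvd p q (G ⧸ N) := by
  rintro y ⟨k, hk⟩ hd
  have hY : IsPGroup q (Subgroup.zpowers y) :=
    IsPGroup.of_card (n := k) (by rw [Nat.card_zpowers, hk])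
  obtain ⟨R, hR⟩ := hY.exists_le_sylow
  obtain ⟨Q, rfl⟩ := Sylow.mapSurjective_surjective (QuotientGroup.mk'_surjective N) q R
  obtain ⟨x, hx, rfl⟩ := hR (Subgroup.mem_zpowers y)
  apply h x (exists_orderOf_eq_pow Q.2 hx)
  refine hd.trans (dvd_trans (Subgroup.index_dvd_of_le ?_) (Subgroup.index_map_dvd _
    (QuotientGroup.mk'_surjective N)))
  rintro _ ⟨c, hc, rfl⟩
  rw [Subgroup.mem_centralizer_singleton_iff]
  rw [SetLike.mem_coe, Subgroup.mem_centralizer_singleton_iff] at hc
  rw [← map_mul, ← map_mul, hc]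

theorem sylow_le_pPrimeCore (hpq : p ≠ q) (hs : Cfsg.IsPSolvable p G) (h : NoClassDvd p q G)
    (Q : Sylow q G) : (Q : Subgroup G) ≤ Cfsg.pPrimeCore p G := by
  set π := QuotientGroup.mk' (Cfsg.pPrimeCore p G)
  intro y hy
  rw [← QuotientGroup.ker_mk' (Cfsg.pPrimeCore p G), MonoidHom.mem_ker]
  have hord : ∃ k : ℕ, orderOf (π y) = q ^ k := exists_orderOf_eq_pow (Q.2.map π) ⟨y, hy, rfl⟩
  have hd := noClassDvd_quotient h (Cfsg.pPrimeCore p G) (π y) hord
  obtain ⟨P, hP⟩ := exists_le_of_not_dvd_index (p := p) _ hd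
  have hc : π y ∈ Subgroup.centralizer
      ((Cfsg.pCore p (G ⧸ Cfsg.pPrimeCore p G) : Subgroup _) : Set (G ⧸ Cfsg.pPrimeCore p G)) := by
    intro o ho
    exact Subgroup.mem_centralizer_singleton_iff.mp
      (hP (isPGroup_pCore.le_sylow_of_normal P ho))
  have h2 := centralizer_pCore_le (isPSolvable_quotient hs _)
    (pPrimeCore_quotient_eq_bot _ rfl) hc
  exact Subgroup.disjoint_def.mp
    (IsPGroup.disjoint_of_ne p q hpq _ _ isPGroup_pCore (Q.2.map π)) h2 ⟨y, hy, rfl⟩

omit [Fact p.Prime] in
/-- If `y` centralizes one conjugate of `P0` under a normal q'-subgroup, it centralizes every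
conjugate that it normalizes. -/
theorem commute_of_normalizes (M : Subgroup G) [M.Normal] (hM : ¬ q ∣ Nat.card M) (P1 : Subgroup G)
    {y m : G} (hy : ∃ k : ℕ, orderOf y = q ^ k) (hm : m ∈ M)
    (hc : ∀ a ∈ P1, a * y = y * a)
    (hn : ∀ a, a ∈ P1 ↔ (m⁻¹ * y * m) * a * (m⁻¹ * y * m)⁻¹ ∈ P1) :
    ∀ a ∈ P1, (m * a * m⁻¹) * y = y * (m * a * m⁻¹) := by
  set N := Subgroup.normalizer (P1 : Set G) with hN
  have hyN : y ∈ N := by
    have h2 : y ∈ Subgroup.centralizer (P1 : Set G) := fun a ha => hc a ha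
    exact Subgroup.centralizer_le_normalizer _ h2
  have hy'N : m⁻¹ * y * m ∈ N := Subgroup.mem_normalizer_iff.mpr hn
  let Y : N := ⟨y, hyN⟩
  let Y' : N := ⟨m⁻¹ * y * m, hy'N⟩
  let M' : Subgroup N := M.subgroupOf N
  have hM' : ¬ q ∣ Nat.card M' := fun hd => hM (hd.trans (by
    rw [← Subgroup.card_map_of_injective N.subtype_injective]
    exact Subgroup.card_dvd_of_le (by rintro _ ⟨a, ha, rfl⟩; exact ha)))
  let S : Subgroup N := Subgroup.zpowers Y ⊔ M'
  have hdiff : Y' * Y⁻¹ ∈ M' := by
    show m⁻¹ * y * m * y⁻¹ ∈ M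
    have : m⁻¹ * (y * m * y⁻¹) ∈ M :=
      mul_mem (inv_mem hm) ((inferInstance : M.Normal).conj_mem m hm y)
    simpa [mul_assoc] using this
  have hY' : Y' ∈ S := by
    have : Y' * Y⁻¹ * Y ∈ S :=
      mul_mem (Subgroup.mem_sup_right hdiff) (Subgroup.mem_sup_left (Subgroup.mem_zpowers Y))
    simpa using this
  let Z : Subgroup S := (Subgroup.zpowers Y).subgroupOf S
  obtain ⟨k, hk⟩ := hy
  have hZc : Nat.card Z = q ^ k := by
    rw [Nat.card_congr (Subgroup.subgroupOfEquivOfLe (le_sup_left : Subgroup.zpowers Y ≤ S)).toEquiv,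
      Nat.card_zpowers, ← Subgroup.orderOf_coe, hk]
  have hZi : ¬ q ∣ Z.index := by
    intro hd
    apply hM'
    refine hd.trans ((Nat.mul_dvd_mul_iff_left (show 0 < Nat.card Z from Nat.card_pos)).mp ?_)
    rw [Subgroup.card_mul_index]
    rw [Nat.card_congr (Subgroup.subgroupOfEquivOfLe (le_sup_left : Subgroup.zpowers Y ≤ S)).toEquiv]
    exact card_sup_dvd_mul _ _
  let T : Sylow q S := (IsPGroup.of_card hZc).toSylow hZi
  have hYp : IsPGroup q (Subgroup.zpowers (⟨Y', hY'⟩ : S)) := by
    refine IsPGroup.of_card (n := k) ?_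
    rw [Nat.card_zpowers, ← Subgroup.orderOf_coe, ← Subgroup.orderOf_coe]
    show orderOf (m⁻¹ * y * m) = q ^ k
    have := (MulAut.conj m⁻¹).orderOf_eq y
    simpa [hk] using this
  obtain ⟨R, hR⟩ := hYp.exists_le_sylow
  obtain ⟨s, hs⟩ := MulAction.exists_smul_eq S R T
  have h3 : s * ⟨Y', hY'⟩ * s⁻¹ ∈ (T : Subgroup S) := by
    rw [← hs, Sylow.coe_subgroup_smul]
    exact ⟨_, hR (Subgroup.mem_zpowers _), rfl⟩
  obtain ⟨i, hi⟩ := Subgroup.mem_zpowers_iff.mp (show ((s * ⟨Y', hY'⟩ * s⁻¹ : S) : N) ∈
    Subgroup.zpowers Y from h3)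
  have hi' : y ^ i = (s : G) * (m⁻¹ * y * m) * (s : G)⁻¹ := congrArg Subtype.val hi
  intro a ha
  have hb : (s : G) * a * (s : G)⁻¹ ∈ P1 := (Subgroup.mem_normalizer_iff.mp s.1.2 a).mp ha
  have h4 : Commute ((s : G) * a * (s : G)⁻¹) (y ^ i) :=
    (show Commute ((s : G) * a * (s : G)⁻¹) y from hc _ hb).zpow_right i
  rw [hi', Commute.conj_iff] at h4
  have h5 := (Commute.conj_iff m).mpr h4
  simpa [mul_assoc, Commute, SemiconjBy] using h5

/-- q-solvable case: the normalizer of a Sylow q-subgroup has index prime to p. -/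
theorem not_dvd_index_normalizer (hpq : p ≠ q) :
    ∀ (n : ℕ) {G : Type*} [Group G] [Finite G], Nat.card G ≤ n → Cfsg.IsPSolvable q G →
      NoClassDvd p q G → ∀ Q : Sylow q G,
        ¬ p ∣ (Subgroup.normalizer ((Q : Subgroup G) : Set G)).index := by
  intro n
  induction n with
  | zero => intro G _ _ h0; exact absurd h0 (Nat.not_le.mpr Nat.card_pos)
  | succ n ih =>
    intro G _ _ hn hsol hcl Q
    rcases subsingleton_or_nontrivial G with hG | hG
    · rw [Subsingleton.elim (Subgroup.normalizer _) ⊤, Subgroup.index_top]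
      exact (Fact.out : p.Prime).not_dvd_one
    obtain ⟨M, hMn, hM1, hMor⟩ : ∃ M : Subgroup G, M.Normal ∧ M ≠ ⊥ ∧
        (IsPGroup q M ∨ ¬ q ∣ Nat.card M) := by
      rcases cores_ne_bot hsol with h | h
      · exact ⟨_, inferInstance, h, Or.inl isPGroup_pCore⟩
      · exact ⟨_, inferInstance, h, Or.inr ((Nat.Prime.coprime_iff_not_dvd Fact.out).mp
          card_pPrimeCore_coprime.symm)⟩
    haveI := hMn
    set π := QuotientGroup.mk' M with hπ
    have hsj := QuotientGroup.mk'_surjective M
    have hlt : Nat.card (G ⧸ M) ≤ n := by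
      have h2 : 1 < Nat.card M := (Subgroup.one_lt_card_iff_ne_bot M).mpr hM1
      have h3 := Subgroup.card_eq_card_quotient_mul_card_subgroup M
      have h4 : 0 < Nat.card (G ⧸ M) := Nat.card_pos
      nlinarith
    have hih := ih hlt (isPSolvable_quotient hsol M) (noClassDvd_quotient hcl M)
      (Q.mapSurjective hsj)
    set Nh := (Subgroup.normalizer
      ((Q.mapSurjective hsj : Subgroup (G ⧸ M)) : Set (G ⧸ M))).comap π with hNh
    have hNhi : ¬ p ∣ Nh.index := by rwa [hNh, Subgroup.index_comap_of_surjective _ hsj]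
    set NQ := Subgroup.normalizer ((Q : Subgroup G) : Set G) with hNQ
    -- `Nh = M ⊔ N(Q)`
    have hle : Nh ≤ NQ ⊔ M := by
      intro g hg
      set L := ((Q : Subgroup G).map π).comap π with hL
      have hgL : g ∈ Subgroup.normalizer (L : Set G) := by
        rw [hL, Subgroup.mem_normalizer_iff]
        intro x
        have hg' := Subgroup.mem_comap.mp hg
        rw [Sylow.coe_mapSurjective, Subgroup.mem_normalizer_iff] at hg'
        simp only [Subgroup.mem_comap, map_mul, map_inv]
        exact hg' (π x)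
      have hQL : (Q : Subgroup G) ≤ L := Subgroup.le_comap_map π _
      let Q2 : Sylow q G := g • Q
      have hQ2L : (Q2 : Subgroup G) ≤ L := by
        rw [Sylow.coe_subgroup_smul]
        rintro _ ⟨x, hx, rfl⟩
        exact (Subgroup.mem_normalizer_iff.mp hgL x).mp (hQL hx)
      obtain ⟨l, hl⟩ := MulAction.exists_smul_eq L (Q2.subtype hQ2L) (Q.subtype hQL)
      rw [Sylow.smul_subtype] at hl
      have hl' := Sylow.subtype_injective hl
      have hlg : (l : G) * g ∈ NQ := by
        have h5 : ((l : G) * g) • Q = Q := by rw [mul_smul]; exact hl'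
        exact Sylow.smul_eq_iff_mem_normalizer.mp h5
      have hlL : (l : G) ∈ NQ ⊔ M := by
        have h6 : L ≤ NQ ⊔ M := by
          rw [hL, Subgroup.comap_map_eq, QuotientGroup.ker_mk']
          exact sup_le_sup_right Subgroup.le_normalizer M
        exact h6 l.2
      have : (l : G)⁻¹ * ((l : G) * g) ∈ NQ ⊔ M :=
        mul_mem (inv_mem hlL) (Subgroup.mem_sup_left hlg)
      simpa using this
    -- the index of `N(Q)` in `N(Q) ⊔ M`
    have hrel : ¬ p ∣ NQ.relIndex M := by
      rcases hMor with hMq | hMq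
      · rw [Subgroup.relIndex_eq_one.mpr ((hMq.le_sylow_of_normal Q).trans Subgroup.le_normalizer)]
        exact (Fact.out : p.Prime).not_dvd_one
      · obtain ⟨S⟩ : Nonempty (Sylow p M) := inferInstance
        have htop : Subgroup.normalizer (((S : Subgroup M).map M.subtype : Subgroup G) : Set G) ⊔ M = ⊤ :=
          Sylow.normalizer_sup_eq_top S
        -- a Sylow p-subgroup of `M` normalized by `Q`
        obtain ⟨T, hT⟩ : ∃ T : Sylow p M, (Q : Subgroup G) ≤
            Subgroup.normalizer (((T : Subgroup M).map M.subtype : Subgroup G) : Set G) := by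
          set NS := Subgroup.normalizer (((S : Subgroup M).map M.subtype : Subgroup G) : Set G)
          have h7 : ¬ q ∣ NS.index := by
            intro hd
            apply hMq
            refine hd.trans ?_
            have hcard := card_sup_dvd_mul NS M
            rw [htop, Subgroup.card_top, ← Subgroup.card_mul_index NS] at hcard
            exact (Nat.mul_dvd_mul_iff_left Nat.card_pos).mp hcard
          obtain ⟨Q0, hQ0⟩ := exists_le_of_not_dvd_index (p := q) NS h7
          obtain ⟨g, hg⟩ := MulAction.exists_smul_eq G Q0 Q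
          refine ⟨(MulAut.conjNormal g : MulAut M) • S, ?_⟩
          rw [← hg, Sylow.coe_subgroup_smul]
          rintro _ ⟨u, hu, rfl⟩
          have hu' := Subgroup.mem_normalizer_iff.mp (hQ0 hu)
          rw [Subgroup.mem_normalizer_iff]
          intro x
          have hmem : ∀ z : G, z ∈ (((MulAut.conjNormal g : MulAut M) • S : Sylow p M) :
              Subgroup M).map M.subtype ↔
              g⁻¹ * z * g ∈ (S : Subgroup M).map M.subtype := by
            intro z
            constructor
            · rintro ⟨w, hw, rfl⟩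
              obtain ⟨v, hv, hvw⟩ := hw
              refine ⟨v, hv, ?_⟩
              rw [← hvw]
              show (v : G) = g⁻¹ * (g * (v : G) * g⁻¹) * g
              simp [mul_assoc]
            · rintro ⟨v, hv, hvz⟩
              refine ⟨_, ⟨v, hv, rfl⟩, ?_⟩
              show g * (v : G) * g⁻¹ = z
              rw [show (v : G) = g⁻¹ * z * g from hvz]
              simp [mul_assoc]
          rw [hmem, hmem, hu']
          simp [mul_assoc]
        -- every element of `Q` centralizes it
        have hTc : (T : Subgroup M).map M.subtype ≤ NQ := by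
          refine le_trans ?_ (Subgroup.centralizer_le_normalizer _)
          rintro _ ⟨t, ht, rfl⟩ y hy
          have hd := hcl y (exists_orderOf_eq_pow Q.2 hy)
          obtain ⟨P, hP⟩ := exists_le_of_not_dvd_index (p := p) _ hd
          -- a Sylow p-subgroup of `M` centralized by `y`
          have hPM : ¬ p ∣ ((P : Subgroup G).subgroupOf M).index := fun hd =>
            P.not_dvd_index (hd.trans (by
              have := Subgroup.relIndex_dvd_index_of_normal (H := M) (K := (P : Subgroup G))
              obtain ⟨c, hc⟩ := this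
              have e1 : ((P : Subgroup G) ⊓ M).relIndex P * (P : Subgroup G).index =
                  ((P : Subgroup G) ⊓ M).index := Subgroup.relIndex_mul_index inf_le_left
              have e2 : ((P : Subgroup G) ⊓ M).relIndex M * M.index =
                  ((P : Subgroup G) ⊓ M).index := Subgroup.relIndex_mul_index inf_le_right
              rw [Subgroup.inf_relIndex_left] at e1
              rw [Subgroup.inf_relIndex_right] at e2
              have hne : 0 < M.relIndex P := Nat.pos_of_ne_zero Subgroup.index_ne_zero_of_finite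
              refine ⟨c, Nat.eq_of_mul_eq_mul_left hne ?_⟩
              show M.relIndex P * (P : Subgroup G).index =
                M.relIndex P * ((P : Subgroup G).relIndex M * c)
              rw [e1, ← e2, hc]
              ring))
          let P1 : Sylow p M := (P.2.comap_of_injective M.subtype M.subtype_injective).toSylow hPM
          obtain ⟨m, hm⟩ := MulAction.exists_smul_eq M P1 T
          have hTm : ∀ z : G, z ∈ (T : Subgroup M).map M.subtype ↔
              (m : G)⁻¹ * z * m ∈ (P1 : Subgroup M).map M.subtype := by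
            intro z
            rw [← hm, Sylow.coe_subgroup_smul]
            constructor
            · rintro ⟨w, ⟨v, hv, rfl⟩, rfl⟩
              refine ⟨v, hv, ?_⟩
              show (v : G) = (m : G)⁻¹ * ((m : G) * (v : G) * (m : G)⁻¹) * m
              simp [mul_assoc]
            · rintro ⟨v, hv, hvz⟩
              refine ⟨_, ⟨v, hv, rfl⟩, ?_⟩
              show (m : G) * (v : G) * (m : G)⁻¹ = z
              rw [show (v : G) = (m : G)⁻¹ * z * m from hvz]
              simp [mul_assoc]
          have hnm := Subgroup.mem_normalizer_iff.mp (hT hy)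
          have key := commute_of_normalizes M hMq ((P1 : Subgroup M).map M.subtype)
            (exists_orderOf_eq_pow Q.2 hy) m.2
            (by
              rintro _ ⟨a, ha, rfl⟩
              exact Subgroup.mem_centralizer_singleton_iff.mp (hP ha))
            (by
              intro a
              have h8 := hnm ((m : G) * a * (m : G)⁻¹)
              rw [hTm, hTm] at h8
              simpa [mul_assoc] using h8)
          have h9 := key _ ((hTm _).mp ⟨t, ht, rfl⟩)
          simpa [mul_assoc] using h9.symm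
        intro hd
        apply T.not_dvd_index
        refine hd.trans ?_
        show (NQ.subgroupOf M).index ∣ (T : Subgroup M).index
        exact Subgroup.index_dvd_of_le fun t ht => hTc ⟨t, ht, rfl⟩
    intro hd
    have h10 : NQ.index ∣ NQ.relIndex M * Nh.index := by
      have h11 : NQ ≤ NQ ⊔ M := le_sup_left
      rw [← Subgroup.relIndex_mul_index h11]
      refine Nat.mul_dvd_mul ?_ (Subgroup.index_dvd_of_le hle)
      have e1 := Subgroup.card_mul_index (NQ.subgroupOf (NQ ⊔ M))
      rw [Nat.card_congr (Subgroup.subgroupOfEquivOfLe h11).toEquiv] at e1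
      have e2 : Nat.card M = Nat.card ↥(NQ ⊓ M) * NQ.relIndex M := by
        have e3 := Subgroup.card_mul_index (NQ.subgroupOf M)
        rw [Subgroup.relIndex, ← e3]
        congr 1
        rw [← Subgroup.inf_subgroupOf_right,
          Nat.card_congr (Subgroup.subgroupOfEquivOfLe inf_le_right).toEquiv]
      have e4 : Nat.card ↥(NQ ⊔ M) * Nat.card ↥(NQ ⊓ M) = Nat.card NQ * Nat.card M := by
        have e5 := Subgroup.relIndex_mul_relIndex ⊥ M (NQ ⊔ M) bot_le le_sup_right
        rw [Subgroup.relIndex_bot_left, Subgroup.relIndex_bot_left,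
          Subgroup.relIndex_sup_right] at e5
        have e6 := Subgroup.card_mul_index (M.subgroupOf NQ)
        have e7 : Nat.card (M.subgroupOf NQ) = Nat.card ↥(NQ ⊓ M) := by
          rw [← Subgroup.inf_subgroupOf_left,
            Nat.card_congr (Subgroup.subgroupOfEquivOfLe inf_le_left).toEquiv]
        rw [← e5, ← e6, e7]
        show Nat.card M * M.relIndex NQ * Nat.card ↥(NQ ⊓ M) =
          Nat.card ↥(NQ ⊓ M) * M.relIndex NQ * Nat.card M
        ring
      rw [e2, ← e1] at e4
      show (NQ.subgroupOf (NQ ⊔ M)).index ∣ NQ.relIndex M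
      refine Dvd.intro 1 ?_
      have hpos : 0 < Nat.card NQ * Nat.card ↥(NQ ⊓ M) := Nat.mul_pos Nat.card_pos Nat.card_pos
      refine Nat.eq_of_mul_eq_mul_left hpos ?_
      rw [mul_one]
      calc Nat.card NQ * Nat.card ↥(NQ ⊓ M) * (NQ.subgroupOf (NQ ⊔ M)).index
          = Nat.card NQ * (NQ.subgroupOf (NQ ⊔ M)).index * Nat.card ↥(NQ ⊓ M) := by ring
        _ = _ := e4.trans (by ring)
    exact (Fact.out : p.Prime).not_dvd_mul hrel hNhi (hd.trans h10)

end Cfsg.Agent.Lib.NormalizesSylow
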